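import Mathlib.Topology.Sheaves.Functors
import Mathlib.Topology.Sheaves.Stalks
import Mathlib.Topology.Sheaves.LocalPredicate
import Mathlib.Topology.Sheaves.SheafCondition.UniqueGluing
import Mathlib.CategoryTheory.Adjunction.FullyFaithful
import Mathlib.CategoryTheory.Adjunction.Triple
import Mathlib.CategoryTheory.EssentialImage

/-!
# Pushforward of sheaves along inducing maps, closed and open embeddings
-/

namespace Groth.Agent.ShSpLib

open CategoryTheory CategoryTheory.Limits TopologicalSpace Opposite Topology

universe u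

variable {Z X : TopCat.{u}} {i : Z ⟶ X}

/-- `i_*` is fully faithful for an inducing map `i`. -/
noncomputable def pushforwardFullyFaithful (hi : IsInducing i) :
    (TopCat.Sheaf.pushforward (Type u) i).FullyFaithful where
  preimage {F G} ψ :=
    { hom :=
        { app := fun O => F.obj.map (eqToHom (hi.map_functorObj O.unop)).op ≫
            ψ.hom.app (op (hi.functorObj O.unop)) ≫
              G.obj.map (eqToHom (hi.map_functorObj O.unop).symm).op
          naturality := by
            intro O O' h
            have hle : hi.functorObj O'.unop ≤ hi.functorObj O.unop :=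
              hi.le_functorObj_iff.2 ((hi.map_functorObj _).trans_le (leOfHom h.unop))
            have hn := ψ.hom.naturality (homOfLE hle).op
            dsimp [TopCat.Sheaf.pushforward, Functor.sheafPushforwardContinuous] at hn ⊢
            simp only [← Functor.map_comp_assoc, Category.assoc]
            rw [show h ≫ (eqToHom (hi.map_functorObj O'.unop)).op =
              (eqToHom (hi.map_functorObj O.unop)).op ≫ ((Opens.map i).map (homOfLE hle)).op from
                Quiver.Hom.unop_inj (Subsingleton.elim _ _), Functor.map_comp, Category.assoc,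
              ]
            erw [reassoc_of% hn]
            rw [← G.obj.map_comp, ← G.obj.map_comp]
            rfl
          } }
  map_preimage {F G} ψ := by
    apply ObjectProperty.hom_ext
    ext O : 2
    obtain ⟨W⟩ := O
    have hle : W ≤ hi.functorObj ((Opens.map i).obj W) := hi.le_functorObj_iff.2 le_rfl
    have hn := ψ.hom.naturality (homOfLE hle).op
    dsimp [TopCat.Sheaf.pushforward, Functor.sheafPushforwardContinuous] at hn ⊢
    rw [show (eqToHom (hi.map_functorObj ((Opens.map i).obj W)).symm).op =
      ((Opens.map i).map (homOfLE hle)).op from Quiver.Hom.unop_inj (Subsingleton.elim _ _)]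
    erw [← hn]
    rw [← Functor.map_comp_assoc]
    refine (congrArg (fun t => F.obj.map t ≫ ψ.hom.app (op W))
      (Quiver.Hom.unop_inj (Subsingleton.elim _ (𝟙 (op ((Opens.map i).obj W)).unop)))).trans ?_
    erw [F.obj.map_id, Category.id_comp]
  preimage_map {F G} φ := by
    apply ObjectProperty.hom_ext
    ext O : 2
    dsimp [TopCat.Sheaf.pushforward, Functor.sheafPushforwardContinuous]
    rw [φ.hom.naturality_assoc]
    simp

/-- The counit `i⁻¹ i_* F ⟶ F` is an isomorphism for an inducing map. -/
lemma isIso_counit (hi : IsInducing i) (F : Z.Sheaf (Type u)) :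
    IsIso ((TopCat.Sheaf.pullbackPushforwardAdjunction (Type u) i).counit.app F) := by
  haveI := (pushforwardFullyFaithful hi).full
  haveI := (pushforwardFullyFaithful hi).faithful
  infer_instance

section

variable (G : X.Sheaf (Type u))

lemma sheaf_ext {U : Opens X} {s t : G.presheaf.obj (op U)}
    (h : ∀ x (hx : x ∈ U), ∃ (V : Opens X) (hV : V ≤ U), x ∈ V ∧
      G.presheaf.map (homOfLE hV).op s = G.presheaf.map (homOfLE hV).op t) : s = t := by
  choose V hV hxV he using h
  exact G.eq_of_locally_eq' (fun x : U => V x.1 x.2) U (fun x => homOfLE (hV x.1 x.2))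
    (fun x hx => Opens.mem_iSup.2 ⟨⟨x, hx⟩, hxV x hx⟩) s t (fun x => he x.1 x.2)

lemma subsingleton_of_stalks {V : Opens X}
    (h : ∀ x, x ∈ V → Subsingleton (G.presheaf.stalk x)) : Subsingleton (G.presheaf.obj (op V)) :=
  ⟨fun s t => TopCat.Presheaf.section_ext G V s t fun x hx => (h x hx).elim _ _⟩

lemma nonempty_of_stalks {V : Opens X} (h : ∀ x, x ∈ V → Nonempty (Unique (G.presheaf.stalk x))) :
    Nonempty (G.presheaf.obj (op V)) := by
  have hsub : ∀ W : Opens X, W ≤ V → Subsingleton (G.presheaf.obj (op W)) := fun W hW =>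
    subsingleton_of_stalks G fun x hx => by
      obtain ⟨u⟩ := h x (hW hx)
      infer_instance
  have hloc : ∀ x : V, ∃ (W : Opens X) (_ : W ≤ V) (_ : x.1 ∈ W), Nonempty (G.presheaf.obj (op W)) := by
    intro x
    obtain ⟨u⟩ := h x.1 x.2
    obtain ⟨W, hxW, s, -⟩ := G.presheaf.exists_germ_eq (x := x.1) u.default
    exact ⟨W ⊓ V, inf_le_right, ⟨hxW, x.2⟩, ⟨G.presheaf.map (homOfLE inf_le_left).op s⟩⟩
  choose W hW hxW hs using hloc
  obtain ⟨s, -, -⟩ := G.existsUnique_gluing' W V (fun x => homOfLE (hW x))
    (fun x hx => Opens.mem_iSup.2 ⟨⟨x, hx⟩, hxW ⟨x, hx⟩⟩) (fun x => (hs x).some)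
    (fun a b => (hsub _ (inf_le_left.trans (hW a))).elim _ _)
  exact ⟨s⟩

end

/-- The stalks of `i_* F` outside of a closed image are singletons. -/
lemma stalk_pushforward_unique (hc : IsClosed (Set.range i)) (F : Z.Sheaf (Type u)) {x : X}
    (hx : x ∉ Set.range i) :
    Nonempty (Unique (((TopCat.Sheaf.pushforward (Type u) i).obj F).presheaf.stalk x)) := by
  let P := (TopCat.Sheaf.pushforward (Type u) i).obj F
  let V : Opens X := ⟨(Set.range i)ᶜ, hc.isOpen_compl⟩
  have hU : ∀ W : Opens X, W ≤ V → Nonempty (Unique (P.presheaf.obj (op W))) := by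
    intro W hW
    have he : (Opens.map i).obj W = ⊥ := by
      ext z
      exact ⟨fun hz => absurd ⟨z, rfl⟩ (hW hz), fun hz => hz.elim⟩
    have ht : IsTerminal (F.presheaf.obj (op ((Opens.map i).obj W))) := F.isTerminalOfEqEmpty he
    exact ⟨Types.isTerminalEquivUnique _ ht⟩
  obtain ⟨u⟩ := hU V le_rfl
  refine ⟨{ default := P.presheaf.germ V x hx u.default, uniq := fun t => ?_ }⟩
  obtain ⟨W, hxW, s, rfl⟩ := P.presheaf.exists_germ_eq (x := x) t
  obtain ⟨uW⟩ := hU (W ⊓ V) inf_le_right
  refine P.presheaf.germ_ext (W ⊓ V) ⟨hxW, hx⟩ (homOfLE inf_le_left) (homOfLE inf_le_right) ?_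
  exact (uW.uniq _).trans (uW.uniq _).symm

/-- A sheaf with singleton stalks outside of the image of a closed inducing map comes from `Z`. -/
lemma mem_essImage_pushforward (hi : IsInducing i) (hc : IsClosed (Set.range i))
    (G : X.Sheaf (Type u)) (h : ∀ x : X, x ∉ Set.range i → Nonempty (Unique (G.presheaf.stalk x))) :
    (TopCat.Sheaf.pushforward (Type u) i).essImage G := by
  let V : Opens X := ⟨(Set.range i)ᶜ, hc.isOpen_compl⟩
  have hsub : ∀ W : Opens X, W ≤ V → Subsingleton (G.presheaf.obj (op W)) := fun W hW =>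
    subsingleton_of_stalks G fun x hx => by
      obtain ⟨u⟩ := h x (hW hx)
      infer_instance
  have hne : Nonempty (G.presheaf.obj (op V)) := nonempty_of_stalks G fun x hx => h x hx
  obtain ⟨pt⟩ := hne
  let g : Opens Z ⥤ Opens X := hi.functor
  have hmem : ∀ {O : Opens Z} {z : Z}, i z ∈ g.obj O ↔ z ∈ O := fun {O _} => hi.mem_functorObj_iff O
  have hV : ∀ O : Opens Z, V ≤ g.obj O := fun O =>
    hi.le_functorObj_iff.2 fun z hz => absurd ⟨z, rfl⟩ (show i z ∈ V from hz)
  have hsheaf : TopCat.Presheaf.IsSheaf (g.op ⋙ G.obj : Z.Presheaf (Type u)) := by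
    rw [TopCat.Presheaf.isSheaf_iff_isSheafUniqueGluing]
    intro ι U sf hsf
    let U' : Option ι → Opens X := fun o => o.elim V fun j => g.obj (U j)
    let sf' : ∀ o, G.presheaf.obj (op (U' o)) := fun o => match o with
      | none => pt
      | some j => sf j
    have hle : ∀ o, U' o ≤ g.obj (iSup U) := fun o => match o with
      | none => hV _
      | some j => leOfHom (g.map (homOfLE (le_iSup U j)))
    have hcov : g.obj (iSup U) ≤ iSup U' := by
      intro x hx
      by_cases hr : x ∈ Set.range i
      · obtain ⟨z, rfl⟩ := hr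
        obtain ⟨j, hj⟩ := Opens.mem_iSup.1 (hmem.1 hx)
        exact Opens.mem_iSup.2 ⟨some j, hmem.2 hj⟩
      · exact Opens.mem_iSup.2 ⟨none, hr⟩
    have hcomp : TopCat.Presheaf.IsCompatible G.obj U' sf' := by
      rintro (_ | a) (_ | b)
      · exact (hsub _ inf_le_left).elim _ _
      · exact (hsub _ inf_le_left).elim _ _
      · exact (hsub _ inf_le_right).elim _ _
      · have h0 := hsf a b
        have e : g.obj (U a) ⊓ g.obj (U b) ≤ g.obj (U a ⊓ U b) :=
          hi.le_functorObj_iff.2 fun z hz => ⟨hmem.1 hz.1, hmem.1 hz.2⟩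
        have h1 := congrArg (G.obj.map (homOfLE e).op) h0
        dsimp at h1
        rw [← Functor.map_comp_apply, ← Functor.map_comp_apply] at h1
        exact h1
    obtain ⟨s, hs, hu⟩ := G.existsUnique_gluing' U' (g.obj (iSup U)) (fun o => homOfLE (hle o))
      hcov sf' hcomp
    refine ⟨s, fun j => hs (some j), fun t ht => hu t fun o => ?_⟩
    cases o with
    | none => exact (hsub _ le_rfl).elim _ _
    | some j => exact ht j
  let H : Z.Sheaf (Type u) := ⟨g.op ⋙ G.obj, hsheaf⟩
  let φ : (TopCat.Sheaf.pushforward (Type u) i).obj H ⟶ G :=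
    { hom :=
        { app := fun W => G.obj.map (homOfLE (hi.le_functorObj_iff.2 le_rfl)).op
          naturality := fun W W' f => by
            dsimp [TopCat.Sheaf.pushforward, Functor.sheafPushforwardContinuous, H]
            rw [← Functor.map_comp, ← Functor.map_comp]
            congr 1 } }
  haveI : ∀ W, IsIso (φ.hom.app W) := by
    rintro ⟨W⟩
    rw [isIso_iff_bijective]
    let U' : Option PUnit.{u + 1} → Opens X := fun o => o.elim V fun _ => W
    have hle : ∀ o, U' o ≤ g.obj ((Opens.map i).obj W) := fun o => match o with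
      | none => hV _
      | some _ => hi.le_functorObj_iff.2 le_rfl
    have hcov : g.obj ((Opens.map i).obj W) ≤ iSup U' := by
      intro x hx
      by_cases hr : x ∈ Set.range i
      · obtain ⟨z, rfl⟩ := hr
        exact Opens.mem_iSup.2 ⟨some PUnit.unit, hmem.1 hx⟩
      · exact Opens.mem_iSup.2 ⟨none, hr⟩
    constructor
    · intro a b hab
      apply G.eq_of_locally_eq' U' _ (fun o => homOfLE (hle o)) hcov
      rintro (_ | _)
      · exact (hsub _ le_rfl).elim _ _
      · exact hab
    · intro t
      let sf' : ∀ o, G.presheaf.obj (op (U' o)) := fun o => match o with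
        | none => pt
        | some _ => t
      have hcomp : TopCat.Presheaf.IsCompatible G.obj U' sf' := by
        rintro (_ | a) (_ | b)
        · exact (hsub _ inf_le_left).elim _ _
        · exact (hsub _ inf_le_left).elim _ _
        · exact (hsub _ inf_le_right).elim _ _
        · rfl
      obtain ⟨s, hs, -⟩ := G.existsUnique_gluing' U' _ (fun o => homOfLE (hle o)) hcov sf' hcomp
      exact ⟨s, hs (some PUnit.unit)⟩
  haveI : IsIso φ.hom := NatIso.isIso_of_isIso_app _
  haveI : IsIso φ := by
    haveI : IsIso ((TopCat.Sheaf.forget (Type u) X).map φ) := inferInstanceAs (IsIso φ.hom)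
    exact isIso_of_fully_faithful (TopCat.Sheaf.forget (Type u) X) φ
  exact ⟨H, ⟨asIso φ⟩⟩

/-! ### Extension by the empty set along an open subset -/

section Open

variable (U : Opens X)

/-- The inclusion of an open subset as a morphism of `TopCat`. -/
abbrev incl : TopCat.of U ⟶ X := TopCat.ofHom ⟨Subtype.val, continuous_subtype_val⟩

lemma incl_isOpenEmbedding : IsOpenEmbedding (incl U) := U.isOpenEmbedding

/-- Restriction to an open is left adjoint to pushforward. -/
noncomputable def restrictAdjunction :
    U.sheafRestrict (C := Type u) ⊣ TopCat.Sheaf.pushforward (Type u) (incl U) :=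
  (TopCat.Sheaf.pullbackPushforwardAdjunction (Type u) (incl U)).ofNatIsoLeft
    ((incl_isOpenEmbedding U).sheafPullbackIso (A := Type u))

variable {U} {L : (TopCat.of U).Sheaf (Type u) ⥤ X.Sheaf (Type u)}

/-- A left adjoint of restriction to an open is fully faithful. -/
noncomputable def extEmptyFullyFaithful (adj : L ⊣ U.sheafRestrict (C := Type u)) :
    L.FullyFaithful :=
  (Adjunction.Triple.fullyFaithfulEquiv ⟨adj, restrictAdjunction U⟩).symm
    (pushforwardFullyFaithful (incl_isOpenEmbedding U).isInducing)

/-- The subsheaf of the terminal sheaf supported on `U`. -/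
noncomputable def indicator (U : Opens X) : X.Sheaf (Type u) :=
  TopCat.subsheafToTypes
    ({ pred := fun {W} _ => ∀ x : W, x.1 ∈ U
       res := fun {_ _} i _ h x => h (i x)
       locality := fun {_} _ h x => by
        obtain ⟨V, hxV, _, hV⟩ := h x
        exact hV ⟨x.1, hxV⟩ } : TopCat.LocalPredicate fun _ : X => PUnit.{u + 1})

lemma le_of_indicator {W : Opens X} (s : (indicator U).presheaf.obj (op W)) : W ≤ U :=
  fun x hx => s.2 ⟨x, hx⟩

/-- The values of a left adjoint of restriction to `U` have no sections over opens not in `U`. -/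
lemma le_of_extEmpty (adj : L ⊣ U.sheafRestrict (C := Type u))
    (H : (TopCat.of U).Sheaf (Type u)) {W : Opens X} (s : (L.obj H).presheaf.obj (op W)) : W ≤ U := by
  let ψ : H ⟶ (U.sheafRestrict (C := Type u)).obj (indicator U) :=
    { hom :=
        { app := fun O => ↾fun _ => ⟨fun _ => PUnit.unit, fun x => by
            obtain ⟨⟨y, hy⟩, -, e⟩ := x.2
            exact e ▸ hy⟩
          naturality := fun _ _ _ => rfl } }
  exact le_of_indicator (((adj.homEquiv H (indicator U)).symm ψ).hom.app (op W) s)

lemma isEmpty_stalk_extEmpty (adj : L ⊣ U.sheafRestrict (C := Type u))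
    (H : (TopCat.of U).Sheaf (Type u)) {x : X} (hx : x ∉ U) :
    IsEmpty ((L.obj H).presheaf.stalk x) := ⟨fun t => by
  obtain ⟨W, hxW, s, -⟩ := (L.obj H).presheaf.exists_germ_eq (x := x) t
  exact hx (le_of_extEmpty adj H s hxW)⟩

lemma mem_essImage_extEmpty (adj : L ⊣ U.sheafRestrict (C := Type u)) (G : X.Sheaf (Type u))
    (h : ∀ x : X, x ∉ U → IsEmpty (G.presheaf.stalk x)) : L.essImage G := by
  haveI := (extEmptyFullyFaithful adj).full
  haveI := (extEmptyFullyFaithful adj).faithful
  haveI hR : IsIso ((U.sheafRestrict (C := Type u)).map (adj.counit.app G)) := by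
    haveI : IsIso (adj.unit.app ((U.sheafRestrict (C := Type u)).obj G) ≫
        (U.sheafRestrict (C := Type u)).map (adj.counit.app G)) := by
      rw [adj.right_triangle_components]
      exact IsIso.id _
    exact IsIso.of_isIso_comp_left (adj.unit.app ((U.sheafRestrict (C := Type u)).obj G)) _
  haveI : ∀ W, IsIso ((adj.counit.app G).hom.app W) := by
    rintro ⟨W⟩
    rw [isIso_iff_bijective]
    by_cases hW : W ≤ U
    · haveI : IsIso ((U.sheafRestrict (C := Type u)).map (adj.counit.app G)).hom :=
        Functor.map_isIso (sheafToPresheaf (Opens.grothendieckTopology U) (Type u))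
          ((U.sheafRestrict (C := Type u)).map (adj.counit.app G))
      have hb : Function.Bijective ((adj.counit.app G).hom.app
          (op ((incl_isOpenEmbedding U).functor.obj ((Opens.map (incl U)).obj W)))) :=
        (isIso_iff_bijective _).1 (inferInstanceAs
          (IsIso (((U.sheafRestrict (C := Type u)).map (adj.counit.app G)).hom.app
            (op ((Opens.map (incl U)).obj W)))))
      have e : (incl_isOpenEmbedding U).functor.obj ((Opens.map (incl U)).obj W) = W := by
        ext x
        exact ⟨fun ⟨y, hy, e⟩ => e ▸ hy, fun hx => ⟨⟨x, hW hx⟩, hx, rfl⟩⟩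
      rw [e] at hb
      exact hb
    · have hG : ∀ s : G.presheaf.obj (op W), False := fun s => hW fun x hx => by
        by_contra hxU
        exact (h x hxU).false (G.presheaf.germ W x hx s)
      exact ⟨fun a => (hG ((adj.counit.app G).hom.app (op W) a)).elim, fun b => (hG b).elim⟩
  haveI : IsIso (adj.counit.app G).hom := NatIso.isIso_of_isIso_app _
  haveI : IsIso (adj.counit.app G) := by
    haveI : IsIso ((TopCat.Sheaf.forget (Type u) X).map (adj.counit.app G)) :=
      inferInstanceAs (IsIso (adj.counit.app G).hom)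
    exact isIso_of_fully_faithful (TopCat.Sheaf.forget (Type u) X) _
  exact ⟨_, ⟨asIso (adj.counit.app G)⟩⟩

end Open

end Groth.Agent.ShSpLib
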