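import Groth.Prelude.Def_W4stktopologysheavesBas
import Mathlib.Topology.Sheaves.SheafCondition.Sites
import Mathlib.Topology.Sheaves.SheafCondition.UniqueGluing
import Mathlib.Topology.Sheaves.LocalPredicate

/-!
# Sheaves of sets on a basis
-/

namespace Groth.Agent.ShSpLib

open CategoryTheory TopologicalSpace Opposite

universe u

variable {X : Type u} [TopologicalSpace X] {B : Set (Opens X)}

lemma exists_member (hB : Opens.IsBasis B) {O : Opens X} {x : X} (hx : x ∈ O) :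
    ∃ Z : B, x ∈ (Z : Opens X) ∧ (Z : Opens X) ≤ O := by
  obtain ⟨Z, hZ, hxZ, hle⟩ := Opens.isBasis_iff_nbhd.1 hB hx
  exact ⟨⟨Z, hZ⟩, hxZ, hle⟩

lemma le_iSup_members (hB : Opens.IsBasis B) (O : Opens X) :
    O ≤ ⨆ Z : {Z : B // (Z : Opens X) ≤ O}, (Z.1 : Opens X) := fun x hx => by
  obtain ⟨Z, hxZ, hle⟩ := exists_member hB hx
  exact Opens.mem_iSup.2 ⟨⟨Z, hle⟩, hxZ⟩

/-- The covering datum attached to a covering by members: all members below the intersections. -/
def mkCover (hB : Opens.IsBasis B) (U : B) {ι : Type u} (V : ι → B)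
    (hle : ∀ i, (V i : Opens X) ≤ (U : Opens X)) (hcov : (U : Opens X) ≤ ⨆ i, (V i : Opens X)) :
    ShB.Cover B where
  U := U
  ι := ι
  V := V
  V_le := hle
  V_cover := hcov
  κ i j := {Z : B // (Z : Opens X) ≤ (V i : Opens X) ⊓ (V j : Opens X)}
  W _ _ Z := Z.1
  W_le_left _ _ Z := Z.2.trans inf_le_left
  W_le_right _ _ Z := Z.2.trans inf_le_right
  W_cover _ _ := le_iSup_members hB _

/-- Sections agreeing on a covering by members are equal. -/
def IsSep (F : ShB.Pre B) : Prop :=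
  ∀ (U : B) (ι : Type u) (V : ι → B) (hle : ∀ i, (V i : Opens X) ≤ (U : Opens X)),
    (U : Opens X) ≤ ⨆ i, (V i : Opens X) → ∀ t t' : F.obj U,
      (∀ i, F.res (hle i) t = F.res (hle i) t') → t = t'

lemma isSep_of_glues (F : ShB.Pre B) (C : ∀ U : B, Set (ShB.Cover B))
    (hCU : ∀ U, ∀ c ∈ C U, c.U = U)
    (hC : ∀ (U : B) (ι : Type u) (V : ι → B), (∀ i, (V i : Opens X) ≤ (U : Opens X)) →
      (U : Opens X) ≤ ⨆ i, (V i : Opens X) →
      ∃ c ∈ C U, ∀ i' : c.ι, ∃ i, (c.V i' : Opens X) ≤ (V i : Opens X))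
    (h : ∀ U, ∀ c ∈ C U, ShB.GluesUniquely F c) : IsSep F := by
  intro U ι V hle hcov t t' heq
  obtain ⟨c, hc, href⟩ := hC U ι V hle hcov
  obtain rfl := hCU U c hc
  have hag : ∀ i', F.res (c.V_le i') t = F.res (c.V_le i') t' := fun i' => by
    obtain ⟨i, hi⟩ := href i'
    rw [← F.res_comp (hle i) hi, ← F.res_comp (hle i) hi, heq]
  exact (h c.U c hc (fun i' => F.res (c.V_le i') t)
    (fun i j k => by rw [F.res_comp, F.res_comp])).unique (fun _ => rfl) (fun i' => (hag i').symm)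

theorem isSheaf_of_glues (hB : Opens.IsBasis B) (F : ShB.Pre B) (C : ∀ U : B, Set (ShB.Cover B))
    (hCU : ∀ U, ∀ c ∈ C U, c.U = U)
    (hC : ∀ (U : B) (ι : Type u) (V : ι → B), (∀ i, (V i : Opens X) ≤ (U : Opens X)) →
      (U : Opens X) ≤ ⨆ i, (V i : Opens X) →
      ∃ c ∈ C U, ∀ i' : c.ι, ∃ i, (c.V i' : Opens X) ≤ (V i : Opens X))
    (h : ∀ U, ∀ c ∈ C U, ShB.GluesUniquely F c) : ShB.IsSheaf F := by
  have hsep := isSep_of_glues F C hCU hC h
  intro c s hs
  -- compatible sections agree on every member below an intersection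
  have hag : ∀ (i j : c.ι) (Z : B) (hi : (Z : Opens X) ≤ (c.V i : Opens X))
      (hj : (Z : Opens X) ≤ (c.V j : Opens X)), F.res hi (s i) = F.res hj (s j) := by
    intro i j Z hi hj
    let κ := Σ k : c.κ i j, {Y : B // (Y : Opens X) ≤ (Z : Opens X) ⊓ (c.W i j k : Opens X)}
    refine hsep Z κ (fun Y => Y.2.1) (fun Y => Y.2.2.trans inf_le_left) ?_ _ _ ?_
    · intro x hx
      obtain ⟨k, hk⟩ := Opens.mem_iSup.1 (c.W_cover i j ⟨hi hx, hj hx⟩)
      obtain ⟨Y, hxY, hY⟩ := exists_member hB (show x ∈ (Z : Opens X) ⊓ (c.W i j k : Opens X) from ⟨hx, hk⟩)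
      exact Opens.mem_iSup.2 ⟨⟨k, Y, hY⟩, hxY⟩
    · rintro ⟨k, Y, hY⟩
      rw [F.res_comp, F.res_comp, ← F.res_comp (c.W_le_left i j k) (hY.trans inf_le_right),
        ← F.res_comp (c.W_le_right i j k) (hY.trans inf_le_right), hs i j k]
  obtain ⟨c', hc', href⟩ := hC c.U c.ι c.V c.V_le c.V_cover
  choose α hα using href
  obtain ⟨U, ι', V', hV', hcov', κ', W', hWl, hWr, hWc⟩ := c'
  obtain rfl := hCU _ _ hc'
  obtain ⟨t, ht, -⟩ := h c.U _ hc' (fun i' => F.res (hα i') (s (α i')))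
    (fun i j k => by
      rw [F.res_comp, F.res_comp]
      exact hag _ _ _ _ _)
  have htV : ∀ i, F.res (c.V_le i) t = s i := by
    intro i
    let κ := Σ i' : ι', {Y : B // (Y : Opens X) ≤ (c.V i : Opens X) ⊓ (V' i' : Opens X)}
    refine hsep (c.V i) κ (fun Y => Y.2.1) (fun Y => Y.2.2.trans inf_le_left) ?_ _ _ ?_
    · intro x hx
      obtain ⟨i', hi'⟩ := Opens.mem_iSup.1 (hcov' (c.V_le i hx))
      obtain ⟨Y, hxY, hY⟩ := exists_member hB (show x ∈ (c.V i : Opens X) ⊓ (V' i' : Opens X) from ⟨hx, hi'⟩)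
      exact Opens.mem_iSup.2 ⟨⟨i', Y, hY⟩, hxY⟩
    · rintro ⟨i', Y, hY⟩
      rw [F.res_comp, ← F.res_comp (hV' i') (hY.trans inf_le_right), ht i', F.res_comp]
      exact hag _ _ _ _ _
  exact ⟨t, htV, fun t' ht' => hsep c.U c.ι c.V c.V_le c.V_cover t' t
    fun i => (ht' i).trans (htV i).symm⟩

lemma isSep_of_isSheaf (hB : Opens.IsBasis B) {F : ShB.Pre B} (hF : ShB.IsSheaf F) : IsSep F :=
  fun U _ V hle hcov t _ heq =>
    (hF (mkCover hB U V hle hcov) (fun i => F.res (hle i) t)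
      (fun _ _ _ => by rw [F.res_comp, F.res_comp])).unique (fun _ => rfl) (fun i => (heq i).symm)

/-! ### Germs -/

lemma germ_res (F : ShB.Pre B) {U V : B} (h : (V : Opens X) ≤ (U : Opens X)) {x : X}
    (hx : x ∈ (V : Opens X)) (s : F.obj U) :
    ShB.germ F x hx (F.res h s) = ShB.germ F x (h hx) s :=
  Quot.sound ⟨V, hx, le_rfl, h, F.res_id V _⟩

lemma exists_of_germ_eq (hB : Opens.IsBasis B) (F : ShB.Pre B) {U V : B} {x : X}
    (hU : x ∈ (U : Opens X)) (hV : x ∈ (V : Opens X)) {s : F.obj U} {t : F.obj V}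
    (h : ShB.germ F x hU s = ShB.germ F x hV t) :
    ∃ (W : B) (_ : x ∈ (W : Opens X)) (ha : (W : Opens X) ≤ (U : Opens X))
      (hb : (W : Opens X) ≤ (V : Opens X)), F.res ha s = F.res hb t := by
  have h' := Quot.eqvGen_exact h
  suffices ShB.StalkRel F x ⟨⟨U, hU⟩, s⟩ ⟨⟨V, hV⟩, t⟩ from this
  have key : ∀ a b, Relation.EqvGen (ShB.StalkRel F x) a b → ShB.StalkRel F x a b := by
    intro a b hab
    induction hab with
    | rel _ _ hr => exact hr
    | refl a => exact ⟨a.1.1, a.1.2, le_rfl, le_rfl, rfl⟩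
    | symm _ _ _ ih =>
      obtain ⟨W, hxW, ha, hb, e⟩ := ih
      exact ⟨W, hxW, hb, ha, e.symm⟩
    | trans a b c _ _ ih1 ih2 =>
      obtain ⟨W, hxW, ha, hb, e⟩ := ih1
      obtain ⟨W', hxW', hb', hc, e'⟩ := ih2
      obtain ⟨Z, hxZ, hZ⟩ := exists_member hB
        (show x ∈ (W : Opens X) ⊓ (W' : Opens X) from ⟨hxW, hxW'⟩)
      refine ⟨Z, hxZ, (hZ.trans inf_le_left).trans ha, (hZ.trans inf_le_right).trans hc, ?_⟩
      rw [← F.res_comp ha (hZ.trans inf_le_left), e, F.res_comp,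
        ← F.res_comp hb' (hZ.trans inf_le_right), e', F.res_comp]
  exact key _ _ h'

lemma germ_ext (hB : Opens.IsBasis B) {F : ShB.Pre B} (hF : ShB.IsSheaf F) {U : B} {s t : F.obj U}
    (h : ∀ x (hx : x ∈ (U : Opens X)), ShB.germ F x hx s = ShB.germ F x hx t) : s = t := by
  choose W hxW ha hb he using fun x : (U : Opens X) => exists_of_germ_eq hB F x.2 x.2 (h x.1 x.2)
  exact isSep_of_isSheaf hB hF U _ W ha
    (fun x hx => Opens.mem_iSup.2 ⟨⟨x, hx⟩, hxW ⟨x, hx⟩⟩) s t he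

lemma exists_section (hB : Opens.IsBasis B) {F : ShB.Pre B} (hF : ShB.IsSheaf F) (U : B)
    (f : ∀ x : (U : Opens X), ShB.Stalk F x.1)
    (hf : ∀ x : (U : Opens X), ∃ (V : B) (_ : x.1 ∈ (V : Opens X))
      (hVU : (V : Opens X) ≤ (U : Opens X)) (σ : F.obj V),
      ∀ (y : X) (hy : y ∈ (V : Opens X)), ShB.germ F y hy σ = f ⟨y, hVU hy⟩) :
    ∃ s : F.obj U, ∀ x, ShB.germ F x.1 x.2 s = f x := by
  choose V hxV hVU σ hσ using hf
  obtain ⟨s, hs, -⟩ := hF (mkCover hB U V hVU fun x hx =>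
      Opens.mem_iSup.2 ⟨⟨x, hx⟩, hxV ⟨x, hx⟩⟩) σ (fun i j Z => germ_ext hB hF fun x hx => by
        rw [germ_res, germ_res]
        exact (hσ i x _).trans (hσ j x _).symm)
  refine ⟨s, fun x => ?_⟩
  rw [← hσ x x.1 (hxV x), ← hs x]
  exact (germ_res F (hVU x) (hxV x) s).symm

/-! ### The associated sheaf on all opens -/

/-- Families of germs that are locally given by sections. -/
def germPred (F : ShB.Pre B) :
    TopCat.PrelocalPredicate fun x : TopCat.of X => ShB.Stalk F x where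
  pred {O} f := ∃ (V : B) (hOV : O ≤ (V : Opens X)) (σ : F.obj V),
    ∀ x : O, f x = ShB.germ F x.1 (hOV x.2) σ
  res {_ _} i f h := by
    obtain ⟨V, hOV, σ, hσ⟩ := h
    exact ⟨V, (leOfHom i).trans hOV, σ, fun x => hσ ⟨x.1, leOfHom i x.2⟩⟩

/-- The sheaf on all opens attached to a presheaf on a basis. -/
noncomputable def extSheaf (F : ShB.Pre B) : TopCat.Sheaf (Type u) (TopCat.of X) :=
  TopCat.subsheafToTypes (germPred F).sheafify

theorem exists_iso_restrict (hB : Opens.IsBasis B) {F : ShB.Pre B} (hF : ShB.IsSheaf F) :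
    Nonempty (ShB.Iso (ShB.restrict B (extSheaf F).presheaf) F) := by
  have hex : ∀ (U : B) (f : (extSheaf F).presheaf.obj (op (U : Opens X))),
      ∃ s : F.obj U, ∀ x, ShB.germ F x.1 x.2 s = f.1 x := by
    intro U f
    refine exists_section hB hF U f.1 fun x => ?_
    obtain ⟨O, hxO, i, V, hOV, σ, hσ⟩ := f.2 x
    obtain ⟨Z, hxZ, hZ⟩ := exists_member hB (show x.1 ∈ O from hxO)
    refine ⟨Z, hxZ, hZ.trans (leOfHom i), F.res (hZ.trans hOV) σ, fun y hy => ?_⟩
    rw [germ_res]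
    exact (hσ ⟨y, hZ hy⟩).symm
  choose sec hsec using hex
  let inv : ∀ U : B, F.obj U → (extSheaf F).presheaf.obj (op (U : Opens X)) := fun U s =>
    ⟨fun x => ShB.germ F x.1 x.2 s,
      TopCat.PrelocalPredicate.sheafifyOf ⟨U, le_rfl, s, fun _ => rfl⟩⟩
  exact ⟨{
    hom :=
      { app := sec
        natural := fun {U V} h f => germ_ext hB hF fun x hx => by
          rw [germ_res]
          exact (hsec U f ⟨x, h hx⟩).trans (hsec V ((ShB.restrict B (extSheaf F).presheaf).res h f) ⟨x, hx⟩).symm }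
    inv :=
      { app := inv
        natural := fun {U V} h s => Subtype.ext (funext fun x => (germ_res F h x.2 s).symm) }
    hom_inv := fun U f => Subtype.ext (funext fun x => hsec U f x)
    inv_hom := fun U s => germ_ext hB hF fun x hx => hsec U (inv U s) ⟨x, hx⟩ }⟩

/-! ### Morphisms determined on a basis -/

lemma existsUnique_hom_of_basis {X : TopCat.{u}} {B : Set (Opens X)} (hB : Opens.IsBasis B)
    (G : X.Presheaf (Type u)) (G' : X.Sheaf (Type u))
    (app : ∀ U : B, G.obj (op (U : Opens X)) → G'.obj.obj (op (U : Opens X)))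
    (nat : ∀ (U V : B) (h : (V : Opens X) ≤ (U : Opens X)) (s : G.obj (op (U : Opens X))),
      G'.obj.map (homOfLE h).op (app U s) = app V (G.map (homOfLE h).op s)) :
    ∃! ψ : G ⟶ G'.obj, ∀ (U : B) (s : G.obj (op (U : Opens X))),
      ψ.app (op (U : Opens X)) s = app U s := by
  have h : Opens.IsBasis (Set.range ((↑) : B → Opens X)) := by rwa [Subtype.range_coe]
  let α : (inducedFunctor ((↑) : B → Opens X)).op ⋙ G ⟶
      (inducedFunctor ((↑) : B → Opens X)).op ⋙ G'.obj :=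
    { app := fun U => ↾(app U.unop)
      naturality := fun U V f => by
        ext s
        exact (nat U.unop V.unop (leOfHom f.unop.hom) s).symm }
  refine ⟨TopCat.Sheaf.restrictHomEquivHom G G' h α, fun U s => ?_, fun ψ hψ => ?_⟩
  · exact ConcreteCategory.congr_hom (TopCat.Sheaf.extend_hom_app G G' h α U) s
  · apply TopCat.Sheaf.hom_ext G G' h
    intro U
    rw [TopCat.Sheaf.extend_hom_app]
    ext s
    exact hψ U s

end Groth.Agent.ShSpLib
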