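import Mathlib.Topology.Sheaves.Sheaf
import Mathlib.Topology.Sheaves.LocallySurjective
import Mathlib.Topology.Sheaves.SheafCondition.UniqueGluing
import Mathlib.CategoryTheory.Sites.Limits
import Mathlib.CategoryTheory.Sites.LocallyInjective
import Mathlib.CategoryTheory.Limits.Types.Filtered
import Mathlib.CategoryTheory.Filtered.Basic
import Mathlib.CategoryTheory.Limits.FunctorCategory.Basic
import Mathlib.CategoryTheory.Limits.Types.Colimits
import Mathlib.CategoryTheory.Sites.LeftExact
import Mathlib.CategoryTheory.Sites.LocallyBijective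

/-!
# Sections of directed colimits of sheaves of sets
-/

namespace Groth.Agent.ShSpLib

open CategoryTheory CategoryTheory.Limits TopologicalSpace Opposite

universe u

variable {X : TopCat.{u}} {J : Type u} [Preorder J] [Nonempty J] [IsDirected J (· ≤ ·)]
  {F : J ⥤ X.Sheaf (Type u)} {c : Cocone F}

/-- The presheaf colimit. -/
noncomputable abbrev preColim (F : J ⥤ X.Sheaf (Type u)) : (Opens X)ᵒᵖ ⥤ Type u :=
  colimit (F ⋙ sheafToPresheaf (Opens.grothendieckTopology X) (Type u))

lemma exists_comparison (hc : IsColimit c) :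
    ∃ g : preColim F ⟶ c.pt.obj,
      Presheaf.IsLocallyInjective (Opens.grothendieckTopology X) g ∧
      Presheaf.IsLocallySurjective (Opens.grothendieckTopology X) g ∧
      ∀ k, colimit.ι (F ⋙ sheafToPresheaf (Opens.grothendieckTopology X) (Type u)) k ≫ g =
        (c.ι.app k).hom := by
  let E := colimit.cocone (F ⋙ sheafToPresheaf (Opens.grothendieckTopology X) (Type u))
  let hc' := Sheaf.isColimitSheafifyCocone (J := Opens.grothendieckTopology X) E (colimit.isColimit _)
  let e := hc'.coconePointUniqueUpToIso hc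
  haveI : IsIso e.hom.hom :=
    Functor.map_isIso (sheafToPresheaf (Opens.grothendieckTopology X) (Type u)) e.hom
  haveI h1 : Presheaf.IsLocallyInjective (Opens.grothendieckTopology X)
      (toSheafify (Opens.grothendieckTopology X) E.pt) := inferInstance
  haveI h2 : Presheaf.IsLocallySurjective (Opens.grothendieckTopology X)
      (toSheafify (Opens.grothendieckTopology X) E.pt) := inferInstance
  haveI h3 : Presheaf.IsLocallyInjective (Opens.grothendieckTopology X) e.hom.hom := inferInstance
  haveI h4 : Presheaf.IsLocallySurjective (Opens.grothendieckTopology X) e.hom.hom := inferInstance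
  refine ⟨toSheafify (Opens.grothendieckTopology X) E.pt ≫ e.hom.hom,
    @Presheaf.isLocallyInjective_comp _ _ _ _ _ _ _ _ (Opens.grothendieckTopology X) _ _ _
      (toSheafify (Opens.grothendieckTopology X) E.pt) e.hom.hom h1 h3,
    @Presheaf.isLocallySurjective_comp _ _ (Opens.grothendieckTopology X) _ _ _ _ _ _ _ _ _
      (toSheafify (Opens.grothendieckTopology X) E.pt) e.hom.hom h2 h4,
    fun k => ?_⟩
  have h := congrArg (fun f => f.hom) (hc'.comp_coconePointUniqueUpToIso_hom hc k)
  refine Eq.trans ?_ h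
  show _ = ((Sheaf.sheafifyCocone E).ι.app k).hom ≫ e.hom.hom
  rw [Sheaf.sheafifyCocone_ι_app_val]
  exact (Category.assoc _ _ _).symm

lemma exists_local_section (hc : IsColimit c) {V : Opens X} (t : c.pt.obj.obj (op V)) {x : X}
    (hx : x ∈ V) :
    ∃ (W : Opens X) (hW : W ≤ V) (i : J) (s : (F.obj i).obj.obj (op W)), x ∈ W ∧
      (c.ι.app i).hom.app (op W) s = c.pt.obj.map (homOfLE hW).op t := by
  obtain ⟨g, -, hg, hι⟩ := exists_comparison hc
  obtain ⟨W, f, ⟨p, hp⟩, hxW⟩ := hg.imageSieve_mem t x hx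
  obtain ⟨i, s, hs⟩ := Types.jointly_surjective _
    (isColimitOfPreserves ((evaluation (Opens X)ᵒᵖ (Type u)).obj (op W))
      (colimit.isColimit (F ⋙ sheafToPresheaf (Opens.grothendieckTopology X) (Type u)))) p
  refine ⟨W, leOfHom f, i, s, hxW, ?_⟩
  rw [← hι i]
  exact (congrArg (g.app (op W)) hs).trans hp

lemma exists_local_eq (hc : IsColimit c) {V : Opens X} {i : J} (s s' : (F.obj i).obj.obj (op V))
    (h : (c.ι.app i).hom.app (op V) s = (c.ι.app i).hom.app (op V) s') {x : X} (hx : x ∈ V) :
    ∃ (W : Opens X) (hW : W ≤ V) (j : J) (f : i ⟶ j), x ∈ W ∧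
      (F.map f).hom.app (op W) ((F.obj i).obj.map (homOfLE hW).op s) =
        (F.map f).hom.app (op W) ((F.obj i).obj.map (homOfLE hW).op s') := by
  obtain ⟨g, hg, -, hι⟩ := exists_comparison hc
  let ι := colimit.ι (F ⋙ sheafToPresheaf (Opens.grothendieckTopology X) (Type u)) i
  have h' : g.app (op V) (ι.app (op V) s) = g.app (op V) (ι.app (op V) s') := by
    rw [← hι i] at h
    exact h
  obtain ⟨W, f, hf, hxW⟩ := hg.equalizerSieve_mem _ _ h' x hx
  have hf' : ι.app (op W) ((F.obj i).obj.map f.op s) = ι.app (op W) ((F.obj i).obj.map f.op s') := by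
    have e1 := ConcreteCategory.congr_hom (ι.naturality f.op) s
    have e2 := ConcreteCategory.congr_hom (ι.naturality f.op) s'
    exact e1.trans (hf.trans e2.symm)
  obtain ⟨j, a, b, hab⟩ := (Types.FilteredColimit.isColimit_eq_iff _
    (isColimitOfPreserves ((evaluation (Opens X)ᵒᵖ (Type u)).obj (op W))
      (colimit.isColimit (F ⋙ sheafToPresheaf (Opens.grothendieckTopology X) (Type u))))).1 hf'
  obtain rfl : a = b := Subsingleton.elim _ _
  exact ⟨W, leOfHom f, j, a, hxW, hab⟩

lemma ι_map (c : Cocone F) {i j : J} (f : i ⟶ j) {V : Opens X} (s : (F.obj i).obj.obj (op V)) :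
    (c.ι.app j).hom.app (op V) ((F.map f).hom.app (op V) s) = (c.ι.app i).hom.app (op V) s :=
  ConcreteCategory.congr_hom
    (NatTrans.congr_app (congrArg (fun t : F.obj i ⟶ c.pt => t.hom) (c.w f)) (op V)) s

/-- With injective transition maps, sections of each term inject in the colimit. -/
lemma injective_ι (hc : IsColimit c)
    (hinj : ∀ (i j : J) (h : i ⟶ j) (V : Opens X), Function.Injective ((F.map h).hom.app (op V)))
    (i : J) (V : Opens X) : Function.Injective ((c.ι.app i).hom.app (op V)) := by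
  intro s s' h
  choose W hW j f hxW he using fun x : V => exists_local_eq hc s s' h x.2
  exact (F.obj i).eq_of_locally_eq' W V (fun x => homOfLE (hW x))
    (fun x hx => Opens.mem_iSup.2 ⟨⟨x, hx⟩, hxW ⟨x, hx⟩⟩) s s' (fun x => hinj i _ (f x) _ (he x))

/-- Over a quasi-compact open, equality in the colimit happens at a finite stage. -/
lemma exists_eq_of_isCompact (hc : IsColimit c) {V : Opens X} (hV : IsCompact (V : Set X)) {i : J}
    (s s' : (F.obj i).obj.obj (op V))
    (h : (c.ι.app i).hom.app (op V) s = (c.ι.app i).hom.app (op V) s') :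
    ∃ (j : J) (f : i ⟶ j), (F.map f).hom.app (op V) s = (F.map f).hom.app (op V) s' := by
  classical
  choose W hW j f hxW he using fun x : V => exists_local_eq hc s s' h x.2
  obtain ⟨T, hT⟩ := hV.elim_finite_subcover (fun x : V => (W x : Set X)) (fun x => (W x).isOpen)
    (fun x hx => Set.mem_iUnion.2 ⟨⟨x, hx⟩, hxW ⟨x, hx⟩⟩)
  obtain ⟨l, hl⟩ := (insert i (T.image j)).exists_le
  refine ⟨l, homOfLE (hl i (Finset.mem_insert_self _ _)), ?_⟩
  refine (F.obj l).eq_of_locally_eq' (fun x : T => W x.1) V (fun x => homOfLE (hW x.1)) ?_ _ _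
    (fun x => ?_)
  · intro p hp
    obtain ⟨x, hx, hpx⟩ := Set.mem_iUnion₂.1 (hT hp)
    exact Opens.mem_iSup.2 ⟨⟨x, hx⟩, hpx⟩
  · let q : j x.1 ⟶ l := homOfLE (hl _ (Finset.mem_insert_of_mem (Finset.mem_image_of_mem _ x.2)))
    have e : ∀ t : (F.obj i).obj.obj (op V),
        (F.obj l).obj.map (homOfLE (hW x.1)).op
          ((F.map (homOfLE (hl i (Finset.mem_insert_self _ _)))).hom.app (op V) t) =
        (F.map q).hom.app _ ((F.map (f x.1)).hom.app _ ((F.obj i).obj.map (homOfLE (hW x.1)).op t)) := by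
      intro t
      rw [show (homOfLE (hl i (Finset.mem_insert_self _ _)) : i ⟶ l) = f x.1 ≫ q from
        Subsingleton.elim _ _, F.map_comp]
      exact (NatTrans.naturality_apply (F.map (f x.1) ≫ F.map q).hom _ t).symm
    rw [e, e, he]

/-- The sections over a finite cover, compatible after a finite stage, glue. -/
lemma exists_preimage (c : Cocone F) {U : Opens X} (t : c.pt.obj.obj (op U)) {m : Type u} [Finite m]
    (W : m → Opens X) (hW : ∀ a, W a ≤ U) (hcov : U ≤ ⨆ a, W a)
    (hs : ∀ a, ∃ (i : J) (s : (F.obj i).obj.obj (op (W a))),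
      (c.ι.app i).hom.app (op (W a)) s = c.pt.obj.map (homOfLE (hW a)).op t)
    (heq : ∀ a b (i : J) (s s' : (F.obj i).obj.obj (op (W a ⊓ W b))),
      (c.ι.app i).hom.app (op (W a ⊓ W b)) s = (c.ι.app i).hom.app (op (W a ⊓ W b)) s' →
      ∃ (j : J) (f : i ⟶ j), (F.map f).hom.app _ s = (F.map f).hom.app _ s') :
    ∃ (i : J) (s : (F.obj i).obj.obj (op U)), (c.ι.app i).hom.app (op U) s = t := by
  classical
  haveI := Fintype.ofFinite m
  choose i s hs using hs
  obtain ⟨k, hk⟩ := (Finset.univ.image i).exists_le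
  let p : ∀ a, i a ⟶ k := fun a => homOfLE (hk _ (Finset.mem_image_of_mem _ (Finset.mem_univ a)))
  let s' : ∀ a, (F.obj k).obj.obj (op (W a)) := fun a => (F.map (p a)).hom.app _ (s a)
  have hs' : ∀ a, (c.ι.app k).hom.app (op (W a)) (s' a) = c.pt.obj.map (homOfLE (hW a)).op t :=
    fun a => (ι_map c (p a) (s a)).trans (hs a)
  have hab : ∀ z : m × m, ∃ (j : J) (f : k ⟶ j),
      (F.map f).hom.app _ ((F.obj k).obj.map (Opens.infLELeft (W z.1) (W z.2)).op (s' z.1)) =
      (F.map f).hom.app _ ((F.obj k).obj.map (Opens.infLERight (W z.1) (W z.2)).op (s' z.2)) := by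
    intro z
    apply heq
    rw [NatTrans.naturality_apply, NatTrans.naturality_apply, hs', hs']
    erw [← Functor.map_comp_apply, ← Functor.map_comp_apply]
    rfl
  choose j f hf using hab
  obtain ⟨l, hl⟩ := (insert k (Finset.univ.image j)).exists_le
  let q : k ⟶ l := homOfLE (hl _ (Finset.mem_insert_self _ _))
  obtain ⟨S, hS, -⟩ := (F.obj l).existsUnique_gluing' W U (fun a => homOfLE (hW a)) hcov
    (fun a => (F.map q).hom.app _ (s' a)) (fun a b => by
      let r : j (a, b) ⟶ l := homOfLE (hl _ (Finset.mem_insert_of_mem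
        (Finset.mem_image_of_mem _ (Finset.mem_univ (a, b)))))
      rw [← NatTrans.naturality_apply (F.map q).hom, ← NatTrans.naturality_apply (F.map q).hom,
        show q = f (a, b) ≫ r from Subsingleton.elim _ _, F.map_comp]
      exact congrArg ((F.map r).hom.app _) (hf (a, b)))
  refine ⟨l, S, c.pt.eq_of_locally_eq' W U (fun a => homOfLE (hW a)) hcov _ _ fun a => ?_⟩
  rw [← NatTrans.naturality_apply, hS a, ι_map, hs']

end Groth.Agent.ShSpLib
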